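import Cfsg.Agent.H7.BN.Goal

set_option autoImplicit false
set_option linter.unusedVariables false
set_option linter.unusedSectionVars false

/-! The induction. -/

namespace Cfsg.Agent.H7.BD

open MulAction Subgroup _root_.Cfsg.Agent.H7.BD.H3

universe u

namespace CB

/-- the hypotheses inherited in the induction -/
structure Pre (G Ω : Type*) [Group G] [MulAction G Ω] : Prop where
  se : SE G Ω
  tr : ∀ a b : Ω, ∃ g : G, g • a = b
  nt : Nontrivial Ω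
  fa : ∀ g : G, (∀ c : Ω, g • c = c) → g = 1
  four : ∀ a : Ω, Four (⊤ : Subgroup G) a
  cm : CM G Ω

section
variable {G Ω : Type*} [Group G] [Finite G] [MulAction G Ω] {a b : Ω} {X : Subgroup G}

theorem pre_img (hs : SE G Ω) (cm : CM G Ω)
    (h4 : Four X a) (hF : ¬ Fx X a) : Pre (Img X a) (orbit X a) := by
  have sur := (toPermHom X (orbit X a)).rangeRestrict_surjective
  have ne1 : ∀ g : X, (g : G) ≠ 1 → (g : G) * g = 1 → prj X a g ≠ 1 := fun g h1 h2 e =>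
    h1 (eq_one_of_odd (odd_orderOf (ker_odd hs hF) (prj_eq_one.1 e)) h2)
  refine ⟨fun z z1 z2 => ?_, ?_, ?_, fun g h => Subtype.ext (Equiv.ext h), fun c => ?_, fun c z w hz hw => ?_⟩
  · obtain ⟨g, rfl, g2⟩ := lift_two hs hF z2
    have g1 : (g : G) ≠ 1 := fun e => z1 (by rw [show g = 1 from Subtype.ext e, map_one])
    obtain ⟨e, he⟩ := exists_J hs g1 g2
    obtain ⟨x, hx, -, -, hJ, -⟩ := h4
    refine ⟨⟨e, mem_orb.2 (apex_orb hs hx hJ g.2 he)⟩, Subtype.ext he.2.2, fun c hc => ?_⟩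
    exact Subtype.ext (he.apex hs (congrArg Subtype.val hc))
  · rintro ⟨b, hb⟩ ⟨c, hc⟩
    obtain ⟨g, hg, e⟩ := orb_trans (orb_symm (mem_orb.1 hb)) (mem_orb.1 hc)
    exact ⟨prj X a ⟨g, hg⟩, Subtype.ext e⟩
  · obtain ⟨b, hb, h⟩ := exists_orb hF
    exact ⟨⟨⟨b, mem_orb.2 h⟩, ⟨a, mem_orbit_self a⟩, fun e => hb (congrArg Subtype.val e)⟩⟩
  · obtain ⟨x, hx, y, hy, h1, h2, h3, h5⟩ := four_orb h4 (mem_orb.1 c.2)
    refine ⟨prj X a ⟨x, hx⟩, mem_top _, prj X a ⟨y, hy⟩, mem_top _,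
      ⟨ne1 _ h1.1 h1.2.1, ?_, Subtype.ext h1.2.2⟩, ⟨ne1 _ h2.1 h2.2.1, ?_, Subtype.ext h2.2.2⟩,
      fun e => ?_, ?_⟩
    · rw [← map_mul, show (⟨x, hx⟩ * ⟨x, hx⟩ : X) = 1 from Subtype.ext h1.2.1, map_one]
    · rw [← map_mul, show (⟨y, hy⟩ * ⟨y, hy⟩ : X) = 1 from Subtype.ext h2.2.1, map_one]
    · refine ne1 (⟨x, hx⟩ * ⟨y, hy⟩) (fun e' => h3 ?_) (mul_sq_one h1.2.1 h2.2.1 h5) ?_
      · exact (eq_inv_of_mul_eq_one_left e').trans h2.inv
      · rw [map_mul, e, ← map_mul, show (⟨y, hy⟩ * ⟨y, hy⟩ : X) = 1 from Subtype.ext h2.2.1, map_one]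
    · rw [← map_mul, ← map_mul, show (⟨x, hx⟩ * ⟨y, hy⟩ : X) = ⟨y, hy⟩ * ⟨x, hx⟩ from Subtype.ext h5]
  · obtain ⟨g, rfl, g2⟩ := lift_two hs hF hz.2.1
    obtain ⟨h, rfl, h2⟩ := lift_two hs hF hw.2.1
    rw [← map_mul, ← map_mul]
    exact congrArg _ (Subtype.ext (cm c.1 g h
      ⟨fun e => hz.1 (by rw [show g = 1 from Subtype.ext e, map_one]), g2, congrArg Subtype.val hz.2.2⟩
      ⟨fun e => hw.1 (by rw [show h = 1 from Subtype.ext e, map_one]), h2, congrArg Subtype.val hw.2.2⟩))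

theorem goal_of_normal (P : Pre G Ω) {N : Subgroup G} [hN : N.Normal] (h1 : N ≠ ⊥)
    (ih : ∀ a : Ω, Four N a → ¬ Fx N a → BT N a) : Goal G Ω := by
  have hs := P.se
  have := P.nt
  have nn : ∀ g : G, g ∈ normalizer (N : Set G) := fun g => by
    rw [normalizer_eq_top]; exact mem_top g
  have ev : ¬ Odd (Nat.card N) := fun ho => h1 (eq_bot_iff.2 fun g hg => P.fa g fun c => by
    obtain ⟨x, -, y, -, h1, h2, h3, h4⟩ := P.four c
    exact four_fix hs ho h1 h2 h3 h4 (nn x) (nn y) g hg)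
  obtain ⟨z, hz, z1, z2⟩ := exists_inv_of_even ev
  obtain ⟨e, he⟩ := exists_J hs z1 z2
  have nF : ∀ c : Ω, ¬ Fx (⊤ : Subgroup G) c := fun c h => by
    obtain ⟨d, hd⟩ := exists_ne c
    obtain ⟨g, hg⟩ := P.tr c d
    exact hd (hg.symm.trans (h g (mem_top g)))
  have JN : ∀ (c : Ω) (w : G), J c w → w ∈ N := fun c w hw => by
    obtain ⟨g, -, rfl, -⟩ := conjJ hs (nF e) (mem_top z) he (mem_top w) hw
    exact hN.conj_mem z hz g
  have exJ : ∀ c : Ω, ∃ w : G, J c w := fun c => let ⟨x, _, _, _, h, _⟩ := P.four c; ⟨x, h⟩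
  have orb : ∀ c d : Ω, Orb N c d := fun c d => by
    obtain ⟨x, hx⟩ := exJ c
    obtain ⟨y, hy⟩ := exJ d
    exact apex_orb hs (JN c x hx) hx (JN d y hy) hy
  intro a
  have h4 : Four N a :=
    let ⟨x, _, y, _, h1, h2, h3, h4⟩ := P.four a
    ⟨x, JN a x h1, y, JN a y h2, h1, h2, h3, h4⟩
  obtain ⟨b, hb⟩ := exists_ne a
  have hF : ¬ Fx N a := fun h => by
    obtain ⟨g, hg, e⟩ := orb a b
    exact hb (e.symm.trans (h g hg))
  obtain ⟨Q, -, q1, q2, q3, q4, q5, q6⟩ := bt_exQ hs (ih a h4 hF)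
  have k1 : ∀ g ∈ Ker N a, g = 1 := fun g hg => P.fa g fun c => hg.2 c (orb a c)
  have q4' : ∀ q ∈ Q, ∃ n, q ^ 2 ^ n = 1 := fun q hq => (q4 q hq).imp fun n => k1 _
  have q5' : ∀ b c : Ω, b ≠ a → c ≠ a → ∃ q ∈ Q, q • b = c := fun b c => q5 b c (orb a b) (orb a c)
  obtain ⟨s, hJ⟩ := exJ a
  obtain ⟨w, hw⟩ := exJ b
  obtain ⟨t, -, ht, -⟩ := swap hs ⊤ (mem_top s) (mem_top w) hJ hw hb.symm
  have dcm : ∀ h : G, h • a = a → ∃ q ∈ Q, (q⁻¹ * h) • a = a ∧ (q⁻¹ * h) • b = b := fun h hh => by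
    obtain ⟨q, hq, e⟩ := q5' b (h • b) hb fun e => hb (MulAction.injective h (e.trans hh.symm))
    exact ⟨q, hq, by rw [mul_smul, hh, inv_smul_eq_iff, q2 q hq], by rw [mul_smul, ← e, inv_smul_smul]⟩
  refine ⟨t, Q, two_pre P.tr fun c d f hd hf => ?_, ht.1, ht.ne_one hb.symm,
    fun e => hb (ht.2.symm.trans e), q2, fun h hh q hq => ?_, ?_, ?_, ?_, ?_⟩
  · obtain ⟨g, rfl⟩ := P.tr a c
    obtain ⟨q, hq, e⟩ := q5' (g⁻¹ • d) (g⁻¹ • f) (fun e => hd (inv_smul_eq_iff.1 e))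
      fun e => hf (inv_smul_eq_iff.1 e)
    exact ⟨g * q * g⁻¹, by rw [mul_smul, mul_smul, inv_smul_smul, q2 q hq],
      by rw [mul_smul, mul_smul, e, smul_inv_smul]⟩
  · have f : (h * q * h⁻¹) • a = a := by
      rw [mul_smul, mul_smul, inv_smul_eq_iff.2 (Eq.symm hh), q2 q hq]; exact hh
    obtain ⟨r, hr, r1, r2⟩ := dcm _ f
    have m : r⁻¹ * (h * q * h⁻¹) ∈ N := N.mul_mem (N.inv_mem (q1 hr)) (hN.conj_mem q (q1 hq) h)
    obtain ⟨n, hn⟩ := q4' q hq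
    obtain ⟨o, ho, e⟩ := pow_coset (g := r⁻¹ * (h * q * h⁻¹)) (U := Q)
      (Cfsg.Agent.H3.mem_normalizer_of_conj_mem (q3 _ m r1)) hr (2 ^ n)
    rw [mul_inv_cancel_left, conj_pow, hn, mul_one, mul_inv_cancel] at e
    have := mem_of_pow2 (K := Q) (n := n) (odd_of_mem_D hs hb.symm ⟨r1, r2⟩) (by
      rw [eq_inv_of_mul_eq_one_right e.symm]; exact Q.inv_mem ho)
    simpa using Q.mul_mem hr this
  · rw [ht.2]
    refine eq_bot_iff.2 fun q hq => ?_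
    obtain ⟨n, hn⟩ := q4' q hq.1
    exact mem_of_pow2 (K := ⊥) (n := n) (odd_of_mem_D hs hb.symm ⟨q2 q hq.1, hq.2⟩) (mem_bot.2 hn)
  · rw [ht.2]
    refine le_antisymm (sup_le q2 inf_le_left) fun h hh => ?_
    obtain ⟨q, hq, r1, r2⟩ := dcm h hh
    simpa using mul_mem (mem_sup_left hq) (mem_sup_right (S := Q)
      (show q⁻¹ * h ∈ stabilizer G a ⊓ stabilizer G b from ⟨r1, r2⟩))
  · rw [← Nat.not_odd_iff_even]
    exact fun ho => hJ.1 (eq_one_of_odd (odd_orderOf ho (q6 s (JN a s hJ) hJ).1) hJ.2.1)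
  · rw [ht.2]; exact odd_D hs hb.symm

end

theorem goal_all (goal : ∀ (G Ω : Type u) [Group G] [Finite G] [MulAction G Ω], Hyp G Ω → Goal G Ω)
    (n : ℕ) : ∀ (G Ω : Type u) [Group G] [Finite G] [MulAction G Ω], Nat.card G < n → Pre G Ω →
      Goal G Ω := by
  induction n with
  | zero => intro _ _ _ _ _ h; exact absurd h (Nat.not_lt_zero _)
  | succ n ihn =>
    intro G Ω _ _ _ hn P
    have ih : ∀ X : Subgroup G, X ≠ ⊤ → ∀ a : Ω, Four X a → ¬ Fx X a → BT X a := by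
      intro X hX a h4 hF
      have sur := (toPermHom X (orbit X a)).rangeRestrict_surjective
      have : Finite (Img X a) := Finite.of_surjective _ sur
      have P' := pre_img P.se P.cm h4 hF
      have l1 : Nat.card (Img X a) ≤ Nat.card X := Nat.card_le_card_of_surjective _ sur
      have l2 := card_lt (lt_top_iff_ne_top.2 hX)
      rw [card_top] at l2
      obtain ⟨t, Q, hS⟩ := ihn _ _ (by omega) P' ⟨a, mem_orbit_self a⟩
      exact ⟨t, Q, hS, setup_two hS (P'.four ⟨a, mem_orbit_self a⟩).rk2⟩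
    by_cases hG : IsSimpleGroup G
    · exact goal G Ω ⟨P.se, P.tr, P.nt, hG, P.four, P.cm, bs_all G, ih⟩
    · have := P.nt
      obtain ⟨a⟩ : Nonempty Ω := inferInstance
      obtain ⟨x, -, -, -, hx, -⟩ := P.four a
      have : Nontrivial G := ⟨⟨x, 1, hx.1⟩⟩
      have : ∃ N : Subgroup G, N.Normal ∧ N ≠ ⊥ ∧ N ≠ ⊤ := by
        by_contra h
        push Not at h
        exact hG ⟨fun N hN => or_iff_not_imp_left.2 (h N hN)⟩
      obtain ⟨N, hN, h1, h2⟩ := this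
      exact goal_of_normal P h1 (ih N h2)

end CB

/-- Bender's theorem for commuting involutions, modulo the normal complement statement -/
theorem CB0 (nc : ∀ (G Ω : Type u) [Group G] [Finite G] [MulAction G Ω], CB.NCS G Ω)
    {G Ω : Type u} [Group G] [Finite G] [MulAction G Ω] (P : P1 G Ω)
    (fa : ∀ g : G, (∀ c : Ω, g • c = c) → g = 1) (cm : CM G Ω) : Goal G Ω :=
  CB.goal_all (fun G Ω _ _ _ H => CB.goal_hyp H (nc G Ω)) (Nat.card G + 1) G Ω (Nat.lt_succ_self _)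
    ⟨P.se, P.tr, P.nt, fa, P.four, cm⟩

end Cfsg.Agent.H7.BD
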