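import Cfsg.Agent.H7.BN.E1
import Cfsg.Agent.H8.EG5

set_option autoImplicit false
set_option linter.unusedSectionVars false
set_option linter.unusedVariables false

/-! End-game: reduction to the configuration `Cf`. -/

namespace Cfsg.Agent.H7.BD

open MulAction Subgroup Cfsg.Agent.H3 Cfsg.Agent.H5.ZL H3 S1
open scoped commutatorElement

namespace CB

variable {G Ω : Type*} [Group G] [Finite G] [MulAction G Ω] {a b : Ω}
  {z w t g k x y s : G} {M N L Y Q : Subgroup G} {p : ℕ}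

theorem goal_of_bot (H : Hyp G Ω) (h2 : Two G Ω) (ab : a ≠ b) (hM : Tr a M)
    (h : M ⊓ D G a b = ⊥) : ∃ (t : G) (Q : Subgroup G), IsRankOneSetup G Ω a t Q := by
  obtain ⟨t, ht⟩ := H.exT ab
  obtain ⟨z, hz⟩ := H.exJ a
  refine ⟨t, M, ?_, ht.1, ht.ne_one ab, fun e => ab (e.symm.trans ht.2), hM.le, hM.norm, ?_, ?_,
    ?_, ?_⟩
  · refine is_two_pretransitive_iff.2 fun {c d c' d'} cd cd' => ?_
    obtain ⟨g, rfl⟩ := H.tr c c'
    obtain ⟨u, u1, u2⟩ := h2 (g • c) (g • d) d' (fun e => cd (smul_left_cancel g e).symm) cd'.symm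
    exact ⟨u * g, by rw [mul_smul, u1], by rw [mul_smul, u2]⟩
  · rw [ht.2, eq_bot_iff, ← h]
    exact fun x hx => ⟨hx.1, hM.le x hx.1, hx.2⟩
  · rw [ht.2]
    refine le_antisymm (sup_le hM.le inf_le_left) fun g hg => ?_
    obtain ⟨n, n1, n2⟩ := hM.tr b (g • b) ab.symm fun e => ab (smul_left_cancel g (hg.trans e.symm))
    have : n⁻¹ * g ∈ stabilizer G a ⊓ stabilizer G b := ⟨show _ • a = a by
      rw [mul_smul, hg, inv_smul_eq_iff, hM.le n n1], show _ • b = b by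
      rw [mul_smul, ← n2, inv_smul_smul]⟩
    simpa using mul_mem (mem_sup_left n1) (mem_sup_right this : _ ∈ M ⊔ _)
  · refine Nat.not_odd_iff_even.1 fun ho => hz.1 ?_
    exact eq_one_of_odd (odd_orderOf ho (hM.J_le8 H.se ab hz)) hz.2.1
  · rw [ht.2]; exact odd_D H.se ab

theorem tr_cent8 (H : Hyp G Ω) (h2 : Two G Ω) (nb : NB G Ω) (ab : a ≠ b) (hw : w ∈ D G a b)
    (w1 : w ≠ 1) (hc : ∀ z, J a z → w * z = z * w) : Tr a (centralizer {z : G | J a z}) := by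
  set C := centralizer {z : G | J a z}
  have mC : ∀ {g}, g ∈ C ↔ ∀ z, J a z → z * g = g * z := mem_centralizer_iff
  obtain ⟨u, -, v, -, hu, hv, uv, -⟩ := H.four a
  have fa : Fx C a := fun g hg => comm_fix H.se hu (mC.1 hg u hu).symm
  have nC : ∀ h : G, h • a = a → ∀ x ∈ C, h * x * h⁻¹ ∈ C := fun h ha x hx => mC.2 fun z hz => by
    have := mC.1 hx _ (hz.conj_fix' ha)
    calc z * (h * x * h⁻¹) = h * (h⁻¹ * z * h * x) * h⁻¹ := by group
      _ = h * x * h⁻¹ * z := by rw [this]; group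
  obtain ⟨p, hp, n, n1, n2⟩ := H8.exists_ppow w1
  have m : w ^ n ∈ C ⊓ D G a b := pow_mem (mem_inf.2 ⟨mC.2 fun z hz => (hc z hz).symm, hw⟩) n
  have p2 : p ≠ 2 := fun e => n1 (eq_one_of_odd (odd_of_mem_D H.se ab m.2) (by rw [← sq, ← e, n2]))
  obtain ⟨P, hP, le⟩ := exists_sylowIn_ge hp (pz (k := w ^ n) (n := 1) (by rwa [pow_one]))
    (zpowers_le.2 m)
  have fb : Fx P b := fun x hx => (hP.le hx).2.2
  obtain ⟨Q, hQ⟩ := E4 H nb (Y := P) (fun e => n1 (by simpa [e] using le (mem_zpowers _)))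
    (fun x hx => (hP.le hx).2.1) ⟨b, ab.symm, fb⟩ ⟨u, v, hu, hv, uv, fun y hy =>
      ⟨(mC.1 (hP.le hy).1 u hu).symm, (mC.1 (hP.le hy).1 v hv).symm⟩⟩
  have QC : Q ≤ C := fun q hq => mC.2 fun z hz =>
    (hQ.inv z hz fun y hy => (mC.1 (hP.le hy).1 z hz).symm).2 q hq
  have hS : SylowIn p P C := sylowIn_of_norm hp (sylowIn_of_max hp hP.pgroup
    (le_inf (hP.le.trans inf_le_left) le_normalizer) fun L hL l1 l2 => by
      obtain ⟨c, c1, c2, c3⟩ := hQ.fix8 hp p2 ab.symm fb hL (l2.trans inf_le_right)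
        (fa.mono (l2.trans inf_le_left))
      obtain ⟨q, q1, q2⟩ := hQ.tr c b c2 fb c1 ab.symm
      have nq := H8.norm_of_comm fun y hy => (hQ.cent q q1 y hy).symm
      have := hP.eq_of_le hp (pg_cj hL q) (by
        rintro _ ⟨x, hx, rfl⟩
        exact ⟨nC q (hQ.fx q q1) x (l2 hx).1, hQ.fx q q1 ▸ fx_cj (fa.mono (l2.trans inf_le_left)) q _
          (cj_mem hx q), q2 ▸ fx_cj c3 q _ (cj_mem hx q)⟩) (cj_eq nq ▸ cj_mono l1 q)
      intro x hx
      simpa [mul_assoc] using nm' nq (this ▸ cj_mem hx q : q * x * q⁻¹ ∈ P))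
  have key : ∀ c, c ≠ a → Orb C b c := fun c ca => by
    obtain ⟨h, h1, rfl⟩ := h2 a b c ab.symm ca
    obtain ⟨y, y1, y2⟩ := hS.adjust hp (x := h) fun x hx => nC h h1 x (hS.le hx)
    obtain ⟨q, q1, q2⟩ := hQ.tr b ((y * h) • b) fb (fb.conj (mem_normalizer_of_conj_mem y2))
      ab.symm fun e => ca (smul_left_cancel y (by rw [← mul_smul, e, fa y y1]))
    exact ⟨y⁻¹ * q, mul_mem (inv_mem y1) (QC q1), by rw [mul_smul, q2, mul_smul, inv_smul_smul]⟩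
  exact ⟨fa, nC, fun c d hc hd => (key c hc).sy.tr (key d hd)⟩

/-- the normal complement statement used when `W ≠ 1` -/
def NCS (G Ω : Type*) [Group G] [MulAction G Ω] : Prop :=
  ∀ (a b : Ω) (C : Subgroup G), a ≠ b → Tr a C → Odd (Nat.card (C ⊓ D G a b : Subgroup G)) →
    (∀ Y ≤ C, Y ≠ ⊥ → (∃ c, c ≠ a ∧ Fx Y c) → ∃ Q ≤ C, QY a Y Q) →
    ∃ N, Tr a N ∧ N ⊓ D G a b = ⊥

theorem goal_of_W8 (H : Hyp G Ω) (h2 : Two G Ω) (nb : NB G Ω) (nc : NCS G Ω) (ab : a ≠ b)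
    (hw : w ∈ D G a b) (w1 : w ≠ 1) (hc : ∀ z, J a z → w * z = z * w) :
    ∃ (t : G) (Q : Subgroup G), IsRankOneSetup G Ω a t Q := by
  have hC := tr_cent8 H h2 nb ab hw w1 hc
  obtain ⟨u, -, v, -, hu, hv, uv, -⟩ := H.four a
  obtain ⟨N, h3, h4⟩ := nc a b _ ab hC ((odd_D H.se ab).of_dvd_nat (card_dvd_of_le inf_le_right))
    fun Y hY Y1 hF => by
      obtain ⟨Q, hQ⟩ := E4 H nb Y1 (hC.le.mono hY) hF ⟨u, v, hu, hv, uv, fun y hy =>
        ⟨(hY hy u hu).symm, (hY hy v hv).symm⟩⟩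
      exact ⟨Q, fun q hq z hz => (hQ.inv z hz fun y hy => (hY hy z hz).symm).2 q hq, hQ⟩
  exact goal_of_bot H h2 ab h3 h4

theorem reduce8 (h : ∀ (a b : Ω) (t s : G) (M : Subgroup G), ¬ Cf a b t s M) (H : Hyp G Ω)
    (h2 : Two G Ω) (nb : NB G Ω) (tg : NCS G Ω) : Goal G Ω := fun a => by
  haveI := H.nt
  obtain ⟨b, ba⟩ := exists_ne a
  by_cases hW : ∀ d ∈ D G a b, (∀ z, J a z → d * z = z * d) → d = 1
  swap
  · push Not at hW
    obtain ⟨w, w1, w2, w3⟩ := hW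
    exact goal_of_W8 H h2 nb tg ba.symm w1 w3 w2
  obtain ⟨t, ht⟩ := H.exT ba.symm
  obtain ⟨s, hs, vs⟩ := exists_s H nb ba.symm ht
  obtain ⟨M, -, hM⟩ := Tr.exists_min8 (a := a) (N := stabilizer G a) ⟨fun _ h => h,
    fun g hg x hx => mul_mem (mul_mem hg hx) (inv_mem hg), fun b c hb hc => h2 a b c hb hc⟩
  exact goal_of_bot H h2 ba.symm hM.1 (by_contra fun ne =>
    h a b t s M ⟨H, h2, nb, ba.symm, ht, hs, vs, hM, hW, ne⟩)

end CB

end Cfsg.Agent.H7.BD
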