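import Cfsg.Agent.H7.BN.E3
import Cfsg.Agent.H7.BN.E5
import Cfsg.Agent.H4.EG8

set_option autoImplicit false
set_option linter.unusedSectionVars false
set_option linter.unusedVariables false

/-! End-game: the configuration with the transfer facts. -/

namespace Cfsg.Agent.H7.BD

open MulAction Subgroup Cfsg.Agent.H3 H3
open scoped commutatorElement

namespace CB

variable {G Ω : Type*} [Group G] [Finite G] [MulAction G Ω] {a b : Ω} {t s k z w x : G}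
  {M N P : Subgroup G} {p : ℕ}

/-- `Cf` together with the transfer facts -/
structure C2 (a b : Ω) (t s : G) (M : Subgroup G) : Prop extends Cf a b t s M where
  tf : TF a b M
  tg : ∀ x ∈ M ⊓ D G a b, Gd a (zpowers x) → x ∈ (⁅M ⊓ D G a b, M ⊓ D G a b⁆ : Subgroup G)

theorem C2.exy (c : C2 a b t s M) : ∃ (p : ℕ) (y : G), p.Prime ∧
    p ∣ (⁅M ⊓ D G a b, M ⊓ D G a b⁆ : Subgroup G).relIndex (M ⊓ D G a b) ∧ y ∈ M ⊓ D G a b ∧
    orderOf y = p ∧ y * s = s * y ∧ ∀ z, J a z → y * z = z * y → z = s := c.toCf.exy8 c.tf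

theorem C2.tnorm (c : C2 a b t s M) : t ∈ normalizer ((M ⊓ D G a b : Subgroup G) : Set G) :=
  c.toCf.tnorm8 c.tf

theorem C2.K_le (c : C2 a b t s M) (hk : KK a b t k) : k ∈ ⁅M ⊓ D G a b, M ⊓ D G a b⁆ :=
  c.toCf.K_le8 c.tf hk

theorem C2.perf (c : C2 a b t s M) : ⁅M, M⁆ = M := c.toCf.perf8 c.tf

theorem C2.norm_D (c : C2 a b t s M) (h1 : N ≤ M) (h2 : M ≤ normalizer (N : Set G)) (h3 : N ≠ M) :
    N ⊓ D G a b = ⊥ := c.toCf.norm_D8 c.tf h1 h2 h3

theorem C2.norm_nil (c : C2 a b t s M) (h1 : N ≤ M) (h2 : M ≤ normalizer (N : Set G))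
    (h3 : N ≠ M) : Group.IsNilpotent N := c.toCf.norm_nil8 c.tf h1 h2 h3

theorem C2.norm_inv (c : C2 a b t s M) (h1 : N ≤ M) (h2 : M ≤ normalizer (N : Set G)) (h3 : N ≠ M)
    (hx : x ∈ N) (x1 : x ≠ 1) (x2 : x * x = 1) : ∀ z w : G, J a z → J a w → z * w = w * z :=
  fun _ _ hz hw => c.toCf.norm_inv8 c.tf h1 h2 h3 hx x1 x2 hz hw

end CB

end Cfsg.Agent.H7.BD
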