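import Cfsg.Agent.H7.BN.C5

set_option autoImplicit false
set_option linter.unusedSectionVars false
set_option linter.unusedVariables false

/-! End-game: conclusion. -/

namespace Cfsg.Agent.H7.BD

open MulAction Subgroup Cfsg.Agent.H3 H3 H4.EG
open scoped commutatorElement

namespace CB

variable {G Ω : Type*} [Group G] [Finite G] [MulAction G Ω] {a b : Ω} {t s k z w x : G}
  {M Y K : Subgroup G}

theorem C2.fld (c : C2 a b t s M) (h : AN t (M ⊓ D G a b) K) (hK : ∀ k, k ∈ K ↔ KK a b t k)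
    (hY : Y ≤ M ⊓ D G a b ⊓ centralizer {s}) (Y1 : Y ≠ ⊥) (hk : k ∈ K) (k1 : k ≠ 1)
    (kY : ∀ y ∈ Y, y * k = k * y) : (∃ e ∈ K, ∀ k ∈ K, (∀ y ∈ Y, y * k = k * y) → k ∈ zpowers e) ∧
    ∀ z ∈ M ⊓ D G a b ⊓ centralizer {s}, z ∈ normalizer (Y : Set G) →
      (∀ k ∈ K, (∀ y ∈ Y, y * k = k * y) → z * k = k * z → k = 1) →
      ∀ g ∈ M ⊓ D G a b ⊓ centralizer {s}, g ∈ normalizer (Y : Set G) → ∃ i : ℕ,
        ∀ k ∈ K, (∀ y ∈ Y, y * k = k * y) → g * k * g⁻¹ = z ^ i * k * (z ^ i)⁻¹ := by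
  have Ys : ∀ y ∈ Y, y * s = s * y := fun y hy => mem_centralizer_singleton_iff.1 (hY hy).2
  obtain ⟨Q, hQ⟩ := E4 c.H c.nb Y1 (fun y hy => (hY hy).1.2.1) ⟨b, c.ab.symm, fun y hy => (hY hy).1.2.2⟩
    (c.gd Ys ((hK k).1 hk) k1 kY)
  have hJ : ∀ β : qB c.H hQ, β ≠ 1 → J a (β : G) ∧ ∀ y ∈ Y, y * β = β * y := fun β h =>
    β.2.resolve_left fun e => h (Subtype.ext e)
  have h1 : ∀ k ∈ K ⊓ centralizer (Y : Set G), k ∈ normalizer (qB c.H hQ : Set G) := fun k hk =>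
    qB_norm c.H hQ (norm_of_comm hk.2) (h.le hk.1).2.1
  have h2 : ∀ k ∈ K, ∀ l ∈ K, ∀ z, J a z → k * z * k⁻¹ = l * z * l⁻¹ → k = l := fun k hk l hl z hz e =>
    (inv_mul_eq_one.1 (c.free ((hK _).1 (mul_mem (inv_mem hl) hk)) hz (by
      calc l⁻¹ * k * z = l⁻¹ * (k * z * k⁻¹) * k := by group
        _ = _ := by rw [e]; group))).symm
  obtain ⟨h3, h4⟩ := g2abs (X := normalizer (qB c.H hQ : Set G)) (B := qB c.H hQ) (fun β γ => by
      rcases eq_or_ne β 1 with rfl | n1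
      · simp
      rcases eq_or_ne γ 1 with rfl | n2
      · simp
      exact Subtype.ext ((hQ.inv _ (hJ β n1).1 (hJ β n1).2).2 _ (hQ.inv _ (hJ γ n2).1 (hJ γ n2).2).1))
    (fun β => ⟨1, by
      rcases eq_or_ne β 1 with rfl | n1
      · simp
      · rw [pow_one, sq]; exact Subtype.ext (hJ β n1).1.2.1⟩)
    ((K ⊓ centralizer (Y : Set G)).subgroupOf _) (fun k hk l hl => Subtype.ext (h.ab _ hk.1 _ hl.1))
    (fun β γ n1 n2 => by
      obtain ⟨k, k2, k3⟩ := c.trK (hJ β n1).1 (hJ γ n2).1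
      have k4 := (hK k).2 k2
      have k5 : k ∈ K ⊓ centralizer (Y : Set G) := ⟨k4, fun y hy => mul_inv_eq_iff_eq_mul.1
        (h2 _ (nm (h.nm (hY hy).1) k4) _ k4 _ (hJ β n1).1 (by
          have e1 := (show Commute y β from (hJ β n1).2 y hy).inv_left.eq
          calc y * k * y⁻¹ * β * (y * k * y⁻¹)⁻¹ = y * (k * (y⁻¹ * β * y) * k⁻¹) * y⁻¹ := by group
            _ = _ := by rw [e1, inv_mul_cancel_right, ← k3, (hJ γ n2).2 y hy, mul_inv_cancel_right]))⟩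
      exact ⟨⟨⟨k, h1 k k5⟩, k5⟩, Subtype.ext k3.symm, fun l hl => Subtype.ext (Subtype.ext
        (h2 _ l.2.1 _ k4 _ (hJ β n1).1 ((congrArg Subtype.val hl).trans k3)))⟩)
    (s := ⟨s, Or.inr ⟨c.hs, Ys⟩⟩) fun e => c.hs.1 (congrArg Subtype.val e)
  obtain ⟨e, he⟩ := h3.exists_generator
  refine ⟨⟨e.1.1, e.2.1, fun k hk kY => ?_⟩, fun z hz zY zf g hg gY => ?_⟩
  · obtain ⟨i, hi⟩ := he ⟨⟨k, h1 k ⟨hk, kY⟩⟩, ⟨hk, kY⟩⟩
    exact ⟨i, congrArg (fun x => x.1.1) hi⟩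
  have nX : ∀ g (hg : g ∈ M ⊓ D G a b ⊓ centralizer {s}) (gY : g ∈ normalizer (Y : Set G)),
      (⟨g, qB_norm c.H hQ gY hg.1.2.1⟩ : normalizer (qB c.H hQ : Set G)) ∈
        normalizer ((K ⊓ centralizer (Y : Set G)).subgroupOf (normalizer (qB c.H hQ : Set G)) : Set _) :=
    fun g hg gY => mem_normalizer_of_conj_mem fun y hy => nm (G := G) (norm_inf (h.nm hg.1) (norm_cent gY)) hy
  obtain ⟨i, hi⟩ := h4 _ (nX z hz zY) _ (nX g hg gY)
    (Subtype.ext (mul_inv_eq_iff_eq_mul.2 (mem_centralizer_singleton_iff.1 hz.2)))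
    (Subtype.ext (mul_inv_eq_iff_eq_mul.2 (mem_centralizer_singleton_iff.1 hg.2)))
    fun k hk e => Subtype.ext (zf _ hk.1 hk.2 (congrArg Subtype.val e))
  exact ⟨i, fun k hk kY => congrArg Subtype.val (hi ⟨k, h1 k ⟨hk, kY⟩⟩ ⟨hk, kY⟩)⟩

theorem C2.decV (c : C2 a b t s M) (hK : ∀ k, k ∈ K ↔ KK a b t k) (hx : x ∈ M ⊓ D G a b) :
    ∃ v ∈ M ⊓ D G a b ⊓ centralizer {s}, ∃ k ∈ K, x = v * k := by
  obtain ⟨v, hv, k, hk, e1, e2, e3⟩ := dec c.oddE c.ht.1 c.tnorm hx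
  exact ⟨v, ⟨hv, mem_centralizer_singleton_iff.2 ((c.vs v hv.2).1 e1)⟩, k, (hK k).2 ⟨hk.2, e2⟩, e3⟩

theorem C2.comm_V (c : C2 a b t s M) (h : AN t (M ⊓ D G a b) K) (hK : ∀ k, k ∈ K ↔ KK a b t k) :
    ⁅M ⊓ D G a b, M ⊓ D G a b⁆ ⊓ (M ⊓ D G a b ⊓ centralizer {s}) =
      ⁅M ⊓ D G a b ⊓ centralizer {s}, M ⊓ D G a b ⊓ centralizer {s}⁆ := by
  have l1 : ⁅M ⊓ D G a b ⊓ centralizer {s}, M ⊓ D G a b ⊓ centralizer {s}⁆ ≤ M ⊓ D G a b ⊓ centralizer {s} :=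
    commutator_le_self _
  refine le_antisymm (fun x hx => ?_) (le_inf (commutator_mono inf_le_left inf_le_left) l1)
  have : ⁅M ⊓ D G a b, M ⊓ D G a b⁆ ≤ ⁅M ⊓ D G a b ⊓ centralizer {s}, M ⊓ D G a b ⊓ centralizer {s}⁆ ⊔ K :=
    commutator_le.2 fun x hx y hy => by
      obtain ⟨v, hv, k, hk, rfl⟩ := c.decV hK hx
      obtain ⟨u, hu, l, hl, rfl⟩ := c.decV hK hy
      convert mul_mem (mem_sup_left (commutator_mem_commutator hv hu)) (mem_sup_right (nm (h.nm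
        (mul_mem hu.1 hv.1)) (mul_mem (mul_mem (mul_mem (nm' (h.nm hu.1) hk) hl) (inv_mem hk))
          (nm' (h.nm hv.1) (inv_mem hl))))) using 1
      simp only [commutatorElement_def]
      group
  obtain ⟨v, hv, k, hk, rfl⟩ := (mem_sup_nm ((l1.trans inf_le_left).trans h.nm)).1 (this hx.1)
  rwa [c.free ((hK k).1 hk) c.hs (mem_centralizer_singleton_iff.1 ((mul_mem_cancel_left (H := centralizer {s}) (l1 hv).2).1 hx.2.2)),
    mul_one]

theorem C2.kv (c : C2 a b t s M) (h : AN t (M ⊓ D G a b) K) (hK : ∀ k, k ∈ K ↔ KK a b t k) :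
    KV K (M ⊓ D G a b ⊓ centralizer {s}) where
  odd := c.oddE.of_dvd_nat (card_dvd_of_le inf_le_left)
  oddK := c.oddE.of_dvd_nat (card_dvd_of_le h.le)
  solv := c.toCf.solvD (inf_le_left.trans inf_le_right)
  ab := h.ab
  norm v hv k hk := nm (h.nm hv.1) hk
  neK := h.ne
  nn Y hY Y1 Yn k hk kY := by
    by_contra k1
    refine Y1 (eq_bot_iff.2 fun x hx => c.s4 (A := K ⊓ centralizer (Y : Set G)) ⟨inf_le_left.trans h.le,
      fun x hx y hy => h.ab x hx.1 y hy.1, fun g hg => ?_, norm_inf h.tn (norm_cent (norm_of_comm fun y hy =>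
        (c.vs y (hY hy).1.2).2 (mem_centralizer_singleton_iff.1 (hY hy).2))),
      fun e => k1 (mem_bot.1 (e ▸ ⟨hk, kY⟩))⟩ (hY hx).1 (mem_centralizer_singleton_iff.1 (hY hx).2)
      fun k hk _ => hk.2 x hx)
    obtain ⟨v, hv, l, hl, rfl⟩ := c.decV hK hg
    exact mul_mem (norm_inf (h.nm hv.1) (norm_cent (mem_normalizer_of_conj_mem (Yn v hv))))
      (norm_of_comm fun y hy => h.ab y hy.1 l hl)
  cyc x hx x1 := by
    by_cases h1 : ∃ k ∈ K, k ≠ 1 ∧ x * k = k * x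
    · obtain ⟨k, hk, k1, e⟩ := h1
      obtain ⟨e, he, h2⟩ := (c.fld h hK (zpowers_le_of_mem hx) (by simpa using x1) hk k1 (comm_zp e)).1
      exact ⟨e, he, fun k hk e => h2 k hk (comm_zp e)⟩
    · push Not at h1
      exact ⟨1, one_mem _, fun k hk e => by rw [(by_contra fun n => h1 k hk n e : k = 1)]; exact one_mem _⟩
  g2 Y hY Y1 z hz zY _ zf g hg gY := by
    by_cases h1 : ∃ k ∈ K, k ≠ 1 ∧ ∀ y ∈ Y, y * k = k * y
    · obtain ⟨k, hk, k1, e⟩ := h1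
      exact (c.fld h hK hY Y1 hk k1 e).2 z hz zY zf g hg gY
    · exact ⟨0, fun k hk e => by rw [(by_contra fun n => h1 ⟨k, hk, n, e⟩ : k = 1)]; simp⟩
  tt x hx := by
    rintro ⟨k, hk, k1, e⟩
    exact c.comm_V h hK ▸ ⟨c.tg _ hx.1 (c.gd (comm_zp (mem_centralizer_singleton_iff.1 hx.2))
      ((hK k).1 hk) k1 (comm_zp e)), hx⟩
  ff p hp hd P hP z hz z1 zP k hk e := by
    rw [← c.comm_V h hK, inf_relIndex_right, rel_eq inf_le_left fun y hy => by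
      obtain ⟨v, hv, k, hk, rfl⟩ := c.decV hK hy
      exact ⟨v, hv, by simpa using c.K_le ((hK k).1 hk)⟩] at hd
    obtain ⟨P1, h1, h2⟩ := exists_sylowIn_ge hp hP.pgroup (hP.le.trans inf_le_left)
    have := Fact.mk hp
    have : Nontrivial P1 := ⟨⟨⟨z, h2 hz⟩, 1, fun e => z1 (congrArg Subtype.val e)⟩⟩
    obtain ⟨⟨⟨y, y1⟩, y2⟩, y3⟩ := @exists_ne _ h1.pgroup.center_nontrivial 1
    have y4 : ∀ g ∈ P1, g * y = y * g := fun g hg => congrArg Subtype.val (mem_center_iff.1 y2 ⟨g, hg⟩)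
    obtain ⟨h3, h4⟩ := c.tf.bad _ hp hd _ h1 _ y1 (fun e => y3 (Subtype.ext (Subtype.ext e))) y4
    obtain ⟨u, u1, u2⟩ := E3 c.H c.nb h3 (fx_zp (h1.le y1).2.1)
    obtain ⟨l, l1, l2⟩ := c.trK u1 c.hs
    have h5 : ∀ g ∈ P1, g * u * g⁻¹ = u := fun g hg => by_contra fun n => h4
      ⟨_, u, u1.conj_fix (h1.le hg).2.1, u1, n, fun v hv => ⟨(((show Commute v g from
        comm_zp (y4 g hg).symm v hv).mul_right (u2 v hv)).mul_right (show Commute v g from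
        comm_zp (y4 g hg).symm v hv).inv_right).eq, u2 v hv⟩⟩
    obtain ⟨d, -, h6⟩ := hP.exists_conj_le hp (h1.pgroup.map (MulAut.conj l).toMonoidHom) (by
      rintro _ ⟨g, hg, rfl⟩
      exact ⟨nm (le_normalizer (c.E_le l1)) (h1.le hg), mem_centralizer_singleton_iff.2 (by
        rw [l2]; exact conj_mul.trans ((congrArg (l * · * l⁻¹) (mul_inv_eq_iff_eq_mul.1 (h5 g hg))).trans
          conj_mul.symm))⟩)
    obtain rfl := eq_of_le_of_card_ge h2 (Nat.card_le_card_of_injective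
      (fun g => (⟨d * (l * g * l⁻¹) * d⁻¹, h6 _ ⟨g, g.2, rfl⟩⟩ : P)) fun g g' e =>
        Subtype.ext (by simpa using Subtype.ext_iff.1 e))
    exact by_contra fun k1 => (c.tf.bad _ hp hd _ h1 _ hz z1 zP).2
      (c.gd (comm_zp (mem_centralizer_singleton_iff.1 (hP.le hz).2)) ((hK k).1 hk) k1 (comm_zp e))

theorem C2.false (c : C2 a b t s M) : False := by
  classical
  letI := actI c.min.1.le
  have := Fintype.ofFinite M
  have := Fintype.ofFinite (II G a)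
  obtain ⟨K, h, hK⟩ := c.exKs
  let ι := M.subtype.comp ((D G a b).subgroupOf M).subtype
  have : (K.comap ι).Normal := ⟨fun y hy g => nm (G := G) (h.nm ⟨g.1.2, g.2⟩) hy⟩
  have hJ : ∀ x : M, x ≠ 1 → x * x = 1 → J a (x : G) := fun x h1 h2 =>
    ⟨fun e => h1 (Subtype.ext e), congrArg Subtype.val h2, c.min.1.le x x.2⟩
  obtain ⟨u, -, v, -, u1, v1, uv, uc⟩ := c.H.four a
  rcases s6 c.tw c.oddE' c.ti (K := K.comap ι) (fun k hk => (hK _).2 ⟨k.2, congrArg ι hk⟩)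
    (fun v hv v1 k hk e => Subtype.ext (Subtype.ext ((c.kv h hK).free _ ⟨⟨v.1.2, v.2⟩,
      mem_centralizer_singleton_iff.2 (mul_inv_eq_iff_eq_mul.1 (congrArg Subtype.val hv))⟩
      (fun e => v1 (Subtype.ext (Subtype.ext e))) _ hk (congrArg ι e)))) with h2 | h2
  · refine z2 (X := M) (fun x y x2 y2 => ?_) ⟨⟨u, c.J_le u1⟩, ⟨v, c.J_le v1⟩, fun e => u1.1 (congrArg Subtype.val e),
      fun e => v1.1 (congrArg Subtype.val e), fun e => uv (congrArg Subtype.val e), Subtype.ext u1.2.1,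
      Subtype.ext v1.2.1⟩ fun x y x' y' a1 a2 a3 a4 b1 b2 b3 b4 n1 n2 => ?_
    · rcases eq_or_ne x 1 with rfl | x1
      · simp
      rcases eq_or_ne y 1 with rfl | y1
      · simp
      rcases eq_or_ne x y with rfl | xy
      · rfl
      obtain ⟨g, g1, g2⟩ := h2 ⟨u, u1⟩ ⟨v, v1⟩ ⟨x, hJ x x1 x2⟩ ⟨y, hJ y y1 y2⟩
        (fun e => uv (congrArg Subtype.val e)) fun e => xy (Subtype.ext (congrArg Subtype.val e :))
      replace g1 : (g : G) * u * (g : G)⁻¹ = x := congrArg Subtype.val g1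
      replace g2 : (g : G) * v * (g : G)⁻¹ = y := congrArg Subtype.val g2
      exact Subtype.ext (by rw [coe_mul, coe_mul, ← g1, ← g2, conj_mul, conj_mul, uc])
    · obtain ⟨g, g1, g2⟩ := h2 ⟨x, hJ x a1 b1⟩ ⟨y, hJ y a2 b2⟩ ⟨x', hJ x' a3 b3⟩ ⟨y', hJ y' a4 b4⟩
        (fun e => n1 (Subtype.ext (congrArg Subtype.val e :))) fun e => n2 (Subtype.ext (congrArg Subtype.val e :))
      exact ⟨g, Subtype.ext (congrArg Subtype.val g1 :), Subtype.ext (congrArg Subtype.val g2 :)⟩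
  obtain ⟨k, k1, k2, k3⟩ := c.exK h
  obtain ⟨P⟩ : Nonempty (Sylow 2 M) := inferInstance
  have hP : (P : Subgroup M) ≤ (centralizer {z : G | J a z}).subgroupOf M := fun g hg z hz => by
    have : ∀ x : II G a, g • x = x := fun x => by
      obtain ⟨n, hn⟩ := P.2 ⟨g, hg⟩
      replace hn : g ^ 2 ^ n • x = x := by rw [show g ^ 2 ^ n = 1 from congrArg Subtype.val hn, one_smul]
      induction n with
      | zero => simpa using hn
      | succ n ih => exact ih (h2 _ _ (by rwa [← mul_smul, ← sq, ← pow_mul, ← pow_succ]))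
    exact (mul_inv_eq_iff_eq_mul.1 (congrArg Subtype.val (this ⟨z, hz⟩))).symm
  have h3 := solv_tr (X := M) c.H.cm c.min.1.le c.hs (fun u v hu hv => by
    obtain ⟨k, h1, h2⟩ := c.trK hu hv
    exact ⟨k, (c.E_le h1).1, h2.symm⟩)
    ((Nat.odd_iff.2 (Nat.two_dvd_ne_zero.1 P.not_dvd_index)).of_dvd_nat (index_dvd_of_le hP))
  rw [c.perf, c.perf] at h3
  exact k2 (c.free k3 c.hs (h3 (h.le k1).1 s c.hs).symm)


end CB

end Cfsg.Agent.H7.BD
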