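import Cfsg.Agent.H7.BN.E1
import Cfsg.Agent.H3.EG2

set_option autoImplicit false
set_option linter.unusedSectionVars false
set_option linter.unusedVariables false

/-! End-game: transfer. -/

namespace Cfsg.Agent.H7.BD

open MulAction Subgroup Cfsg.Agent.H3 H3

namespace CB

variable {G Ω : Type*} [Group G] [Finite G] [MulAction G Ω] {a b c : Ω}
  {g q x : G} {M Y : Subgroup G} {p r n : ℕ}

section
variable {N L S : Subgroup G}

theorem TRL (_H : Hyp G Ω) (hab : a ≠ b) (hM : MinTr a M) (hr : r.Prime)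
    (hn : ¬ r ∣ (M ⊓ D G a b).relIndex M) {A : Type*} [CommGroup A] (hA : IsPGroup r A)
    (φ : ↥(M ⊓ D G a b) →* A) {x : ↥(M ⊓ D G a b)}
    (hx : ∀ (i : ℕ) (g : G), g ∈ M → ∀ h : g * x.1 ^ i * g⁻¹ ∈ M ⊓ D G a b,
      φ ⟨_, h⟩ = φ (x ^ i)) : φ x = 1 := by
  classical
  let ψ := φ.comp (subgroupOfEquivOfLe (inf_le_left : M ⊓ D G a b ≤ M)).toMonoidHom
  have h1 : closure {g | g ∈ M ∧ (orderOf g).Coprime r} ≤ ψ.transfer.ker.map M.subtype :=
    (closure_le _).2 fun g hg => ⟨⟨g, hg.1⟩, one_of_cop hA hg.2 (by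
      rw [← map_pow, show (⟨g, hg.1⟩ : M) ^ orderOf g = 1 from Subtype.ext (pow_orderOf_eq_one g),
        map_one]), rfl⟩
  rw [hM.gen3 hab hr hn] at h1
  obtain ⟨y, hy, e⟩ := h1 x.2.1
  have := Fintype.ofFinite (Quotient (orbitRel (zpowers y) (M ⧸ (M ⊓ D G a b).subgroupOf M)))
  have h2 := (MonoidHom.transfer_eq_prod_quotient_orbitRel_zpowers_quot ψ y).symm.trans hy
  refine one_of_cop hA ((hr.coprime_iff_not_dvd.2 hn).symm) ?_
  rw [relIndex, index_eq_sum_minimalPeriod _ y, ← Finset.prod_pow_eq_pow_sum, ← h2]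
  refine Finset.prod_congr rfl fun q _ => ?_
  rw [← map_pow, ← hx _ _ (inv_mem q.out.out.2) (by
    have := QuotientGroup.out_conj_pow_minimalPeriod_mem _ y q.out
    rw [inv_inv, ← e]; exact this)]
  exact congrArg φ (Subtype.ext (by simp [← e]))

end

theorem idx_mod (H : Hyp G Ω) (hM : Tr a M) (hab : a ≠ b) (hp : p.Prime) (hY : IsPGroup p Y)
    (ha : Fx Y a) : (M ⊓ D G a b).relIndex M ≡ {c | c ≠ a ∧ Fx Y c}.ncard [MOD p] := by
  have := fin H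
  rw [hM.idx3 hab]
  exact pgroup_ncard_modEq hp hY (Set.toFinite _) fun g hg c hc e =>
    hc (smul_left_cancel g (e.trans (ha g hg).symm))

theorem TRL' (H : Hyp G Ω) (hab : a ≠ b) (hM : MinTr a M) (hx : x ∈ M ⊓ D G a b)
    (h1 : ∀ y ∈ zpowers x, y ≠ 1 → ∀ g ∈ M, (g * y * g⁻¹) • b = b →
      ∃ d ∈ M ⊓ D G a b, g * y * g⁻¹ = d * y * d⁻¹)
    (h2 : ∀ r : ℕ, r.Prime → ∀ y ∈ zpowers x, y ≠ 1 → IsPGroup r (zpowers y) →
      ¬ r ∣ (M ⊓ D G a b).relIndex M) :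
    x ∈ (⁅M ⊓ D G a b, M ⊓ D G a b⁆ : Subgroup G) := by
  rw [← map_subtype_commutator]
  refine ⟨⟨x, hx⟩, ?_, rfl⟩
  rw [SetLike.mem_coe, ← Abelianization.ker_of, MonoidHom.mem_ker, ← orderOf_eq_one_iff]
  by_contra h
  obtain ⟨r, hr, hd⟩ := Nat.exists_prime_and_dvd h
  set B := Abelianization (M ⊓ D G a b : Subgroup G)
  let φ := (powMonoidHom (α := B) (ordCompl[r] (Nat.card B))).rangeRestrict.comp Abelianization.of
  have h3 : φ (⟨x, hx⟩ ^ ordCompl[r] (orderOf x)) = 1 := by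
    have hy : x ^ ordCompl[r] (orderOf x) ∈ zpowers x := npow_mem_zpowers x _
    by_cases e : x ^ ordCompl[r] (orderOf x) = 1
    · exact (congrArg φ (Subtype.ext e)).trans φ.map_one
    refine TRL H hab hM hr (h2 r hr _ hy e (pz (n := (orderOf x).factorization r) (by
      rw [← pow_mul, mul_comm, Nat.ordProj_mul_ordCompl_eq_self, pow_orderOf_eq_one]))) ?_ φ ?_
    · rintro ⟨_, u, rfl⟩
      exact ⟨(Nat.card B).factorization r, Subtype.ext (by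
        change (u ^ _) ^ _ = 1
        rw [← pow_mul, mul_comm, Nat.ordProj_mul_ordCompl_eq_self, pow_card_eq_one'])⟩
    · intro i g hg h
      by_cases e : (x ^ ordCompl[r] (orderOf x)) ^ i = 1
      · exact congrArg φ (Subtype.ext (by simp [e]))
      obtain ⟨d, hd, e⟩ := h1 _ (pow_mem hy i) e g hg h.2.2
      rw [← mul_inv_cancel_comm (φ ⟨d, hd⟩) (φ (_ ^ i)), ← map_inv, ← map_mul, ← map_mul]
      exact congrArg φ (Subtype.ext e)
  have h4 : (Abelianization.of (⟨x, hx⟩ : (M ⊓ D G a b : Subgroup G))) ^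
      (ordCompl[r] (orderOf x) * ordCompl[r] (Nat.card B)) = 1 := by
    rw [pow_mul, ← map_pow]; exact congrArg Subtype.val h3
  rcases hr.dvd_mul.1 (hd.trans (orderOf_dvd_of_pow_eq_one h4)) with h | h
  · exact Nat.not_dvd_ordCompl hr (orderOf_pos x).ne' h
  · exact Nat.not_dvd_ordCompl hr Nat.card_pos.ne' h

theorem Ttwo (H : Hyp G Ω) (hab : a ≠ b) (hM : MinTr a M) (hx : x ∈ M ⊓ D G a b)
    (h : ∀ i : ℕ, x ^ i ≠ 1 → ∀ c : Ω, x ^ i • c = c → c = a ∨ c = b) :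
    x ∈ (⁅M ⊓ D G a b, M ⊓ D G a b⁆ : Subgroup G) := by
  have h' : ∀ y ∈ zpowers x, y ≠ 1 → ∀ c : Ω, c ≠ a → y • c = c → c = b := fun y hy y1 c ca e => by
    obtain ⟨i, rfl⟩ := mem_powers_iff_mem_zpowers.2 hy
    exact (h i y1 c e).resolve_left ca
  refine TRL' H hab hM hx (fun y hy y1 g hg e => ⟨g, ⟨hg, hM.1.le g hg, ?_⟩, rfl⟩)
    fun r hr y hy y1 hY hd => ?_
  · refine (inv_smul_eq_iff.1 (h' y hy y1 _ (fun e => hab ?_) ?_)).symm
    · rw [inv_smul_eq_iff.1 e, hM.1.le g hg]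
    · rw [eq_inv_smul_iff, smul_smul, smul_smul, e]
  · have hD := zpowers_le.2 (zpowers_le.2 hx hy).2
    have := idx_mod H hM.1 hab hr hY fun g hg => (hD hg).1
    rw [show {c | c ≠ a ∧ Fx (zpowers y) c} = {b} from Set.ext fun c =>
      ⟨fun e => h' y hy y1 c e.1 (e.2 y (mem_zpowers y)), fun e => by
        rw [Set.mem_singleton_iff.1 e]; exact ⟨hab.symm, fun g hg => (hD hg).2⟩⟩,
      Set.ncard_singleton] at this
    exact hr.one_lt.ne' (Nat.dvd_one.1 ((this.dvd_iff dvd_rfl).1 hd))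

theorem Tgood (H : Hyp G Ω) (nb : NB G Ω) (hab : a ≠ b) (hM : MinTr a M) (hx : x ∈ M ⊓ D G a b)
    (hg : Gd a (zpowers x)) : x ∈ ⁅M ⊓ D G a b, M ⊓ D G a b⁆ := by
  have hD : ∀ y ∈ zpowers x, zpowers y ≤ D G a b := fun y hy => zpowers_le.2 (zpowers_le.2 hx hy).2
  have h' : ∀ y ∈ zpowers x, y ≠ 1 → ∃ Q, QY a (zpowers y) Q := fun y hy y1 => by
    obtain ⟨z, w, h1, h2, h3, h4⟩ := hg
    exact E4 H nb (by rwa [Ne, zpowers_eq_bot]) (le_D.1 (hD y hy)).1 ⟨b, hab.symm, (le_D.1 (hD y hy)).2⟩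
      ⟨z, w, h1, h2, h3, fun u hu => h4 u (zpowers_le.2 hy hu)⟩
  refine TRL' H hab hM hx (fun y hy y1 g hg e => ?_) fun r hr y hy y1 hY hd => ?_
  · obtain ⟨Q, hQ⟩ := h' y hy y1
    obtain ⟨q, hq, e'⟩ := hQ.tr b (g⁻¹ • b) (le_D.1 (hD y hy)).2 (H8.fx_zpowers (by
      rw [eq_inv_smul_iff, smul_smul, smul_smul, e])) hab.symm fun e => hab (by
        rw [inv_smul_eq_iff.1 e, hM.1.le g hg])
    obtain ⟨n, hn⟩ := hQ.pg ⟨q, hq⟩
    have hqM := mul_mem hg (hM.1.two_mem H.se hab (hQ.fx q hq) (congrArg Subtype.val hn))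
    exact ⟨g * q, ⟨hqM, hM.1.le _ hqM, show _ • b = b by rw [mul_smul, e', smul_inv_smul]⟩, by
      rw [mul_assoc g q, hQ.cent q hq y (mem_zpowers y)]; group⟩
  · obtain ⟨Q, hQ⟩ := h' y hy y1
    obtain ⟨c, c1, c2, -⟩ : ∃ c, c ≠ a ∧ Fx (zpowers y) c ∧ True := ⟨b, hab.symm, (le_D.1 (hD y hy)).2, trivial⟩
    have := idx_mod H hM.1 hab hr hY (le_D.1 (hD y hy)).1
    rw [show {c | c ≠ a ∧ Fx (zpowers y) c} = (fun q : G => q • c) '' Q from Set.ext fun d =>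
      ⟨fun e => hQ.tr c d c2 e.2 c1 e.1, by
        rintro ⟨q, hq, rfl⟩
        exact ⟨fun e => c1 (smul_left_cancel q (e.trans (hQ.fx q hq).symm)),
          c2.conj (H8.norm_of_comm fun y hy => (hQ.cent q hq y hy).symm)⟩⟩,
      Set.InjOn.ncard_image (fun q hq q' hq' e => (inv_mul_eq_one.1 (hQ.reg _
        (Q.mul_mem (Q.inv_mem hq') hq) c c1 (by
          rw [mul_smul, show q • c = q' • c from e, inv_smul_smul]))).symm)] at this
    have f2 := Fact.mk Nat.prime_two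
    obtain ⟨n, hn⟩ := hQ.pg.exists_card_eq
    rw [← Nat.card_coe_set_eq, SetLike.coe_sort_coe, hn] at this
    obtain rfl := (Nat.prime_dvd_prime_iff_eq hr Nat.prime_two).1
      (hr.dvd_of_dvd_pow ((this.dvd_iff dvd_rfl).1 hd))
    obtain ⟨k, hk⟩ := hY ⟨y, mem_zpowers y⟩
    exact y1 (mem_bot.1 (mem_of_pow2 (odd_of_mem_D H.se hab (hD y hy (mem_zpowers y)))
      (mem_bot.2 (congrArg Subtype.val hk))))

end CB

end Cfsg.Agent.H7.BD
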