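import Cfsg.Agent.H7.BN.E1
import Cfsg.Agent.H8.EG3

set_option autoImplicit false
set_option linter.unusedSectionVars false
set_option linter.unusedVariables false

/-! End-game: the structure of the minimal transitive normal subgroup. -/

namespace Cfsg.Agent.H7.BD

open MulAction Subgroup Cfsg.Agent.H3 Cfsg.Agent.H5.ZL H3 S1
open scoped commutatorElement

namespace CB

variable {G Ω : Type*} [Group G] [Finite G] [MulAction G Ω] {a b : Ω}
  {z w t g k x y s : G} {M N L : Subgroup G} {p : ℕ}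

namespace Cf

variable (c : Cf a b t s M)
include c

theorem se8 : SE G Ω := c.H.se

theorem normM8 (hg : g • a = a) : g ∈ normalizer (M : Set G) :=
  mem_normalizer_of_conj_mem (c.min.1.norm g hg)

theorem D_le_normE8 : D G a b ≤ normalizer ((M ⊓ D G a b : Subgroup G) : Set G) :=
  fun _ hg => norm_inf (c.normM8 hg.1) (le_normalizer hg)

theorem oddE8 : Odd (Nat.card (M ⊓ D G a b : Subgroup G)) :=
  odd_of_fix2 c.se8 c.ab (fun _ h => h.2.1) fun _ h => h.2.2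

theorem trD8 (u v : G) (hu : J a u) (hv : J a v) : ∃ l ∈ D G a b, l * u * l⁻¹ = v := by
  obtain ⟨k, -, k1, -, k2⟩ := transJ c.se8 ⊤ c.ab (mem_top _) c.ht (mem_top _) (mem_top _) hu hv
  exact ⟨k⁻¹, inv_mem k1, by rw [k2, inv_inv]⟩

theorem J_le (hz : J a z) : z ∈ M := by
  obtain ⟨g, g1, g2⟩ := c.min.1.tr b (z • b) c.ab.symm (hz.ne' c.se8 c.ab.symm)
  have ga := c.min.1.le g g1
  have hd : g⁻¹ * z ∈ D G a b := ⟨show _ • a = a by rw [mul_smul, hz.2.2, inv_smul_eq_iff, ga],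
    show _ • b = b by rw [mul_smul, ← g2, inv_smul_smul]⟩
  have h1 : g⁻¹ * z ∈ M := mem_of_sq_odd (odd_of_mem_D c.se8 c.ab hd) (by
    have := c.min.1.norm z hz.2.2 _ (M.inv_mem g1)
    rw [hz.inv] at this
    simpa only [mul_assoc] using M.mul_mem (M.inv_mem g1) this)
  simpa using M.mul_mem g1 h1

theorem exK8 : ∃ p : ℕ, p.Prime ∧ ∃ k, KK a b t k ∧ k ≠ 1 ∧ k ^ p = 1 := by
  obtain ⟨x, -, y, -, hx, hy, xy, -⟩ := c.H.four a
  obtain ⟨k, -, k1, k2, k3⟩ := transJ c.se8 ⊤ c.ab (mem_top _) c.ht (mem_top _) (mem_top _) hx hy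
  obtain ⟨p, hp, n, n1, n2⟩ := H8.exists_ppow (k := k) fun e => xy (by rw [k3, e]; simp)
  exact ⟨p, hp, _, ⟨pow_mem k1 n, inv_pow_conj c.ht.1 k2 n⟩, n1, n2⟩

theorem exy8 (f : TF a b M) : ∃ (p : ℕ) (y : G), p.Prime ∧
    p ∣ (⁅M ⊓ D G a b, M ⊓ D G a b⁆ : Subgroup G).relIndex (M ⊓ D G a b) ∧ y ∈ M ⊓ D G a b ∧
    orderOf y = p ∧ y * s = s * y ∧ ∀ z, J a z → y * z = z * y → z = s := by
  have lt := comm_lt (c.solvD inf_le_right) c.ne
  obtain ⟨p, hp, hd⟩ := Nat.exists_prime_and_dvd (fun e => lt.not_ge (relIndex_eq_one.1 e))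
  obtain ⟨P, hP⟩ := exists_sylowIn hp (M ⊓ D G a b)
  have h1 : P ≠ ⊥ := fun e => hP.not_dvd (by
    rw [e, relIndex_bot_left]; exact hd.trans (relIndex_dvd_card _ _))
  obtain ⟨z, z1, z2, z3, z4⟩ := H8.exists_center hp hP.pgroup h1
  obtain ⟨h3, h4⟩ := f.bad p hp hd P hP z z1 z2 z4
  obtain ⟨u, u1, u2⟩ := E3p c.H c.nb hp (pz (n := 1) (by rwa [pow_one])) h3
    (H8.fx_zpowers (hP.le z1).2.1)
  obtain ⟨l, l1, l2⟩ := c.trD8 u s u1 c.hs
  haveI := Fact.mk hp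
  refine ⟨p, l * z * l⁻¹, hp, hd, nm (c.D_le_normE8 l1) (hP.le z1), ?_, ?_, fun v hv e => ?_⟩
  · refine orderOf_eq_prime (by rw [_root_.conj_pow, z3]; simp) fun e => z2 ?_
    simpa using e
  · rw [← l2]
    have := u2 z (mem_zpowers z)
    simp only [mul_assoc, inv_mul_cancel_left]
    rw [← mul_assoc z, this, mul_assoc]
  · by_contra hn
    refine h4 ⟨u, l⁻¹ * v * l, u1, hv.conj_fix' l1.1, fun e' => hn ?_, fun x hx => ⟨u2 x hx, ?_⟩⟩
    · rw [← l2, e']; group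
    · refine mem_centralizer_singleton_iff.1 ((zpowers_le (H := centralizer {l⁻¹ * v * l})).2
        (mem_centralizer_singleton_iff.2 ?_) hx)
      calc z * (l⁻¹ * v * l) = l⁻¹ * (l * z * l⁻¹ * v) * l := by group
        _ = l⁻¹ * v * l * z := by rw [e]; group

/-- `E` is transitive on the involutions at `a` -/
theorem trE8 (f : TF a b M) (u v : G) (hu : J a u) (hv : J a v) :
    ∃ n ∈ M ⊓ D G a b, n * u * n⁻¹ = v := by
  obtain ⟨p, y, hp, -, y1, y2, y3, y4⟩ := c.exy8 f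
  exact H8.trans_J hp (N := M ⊓ D G a b) (fun _ h => h.2.1) c.D_le_normE8 c.trD8 y1 (y2 ▸ pow_orderOf_eq_one y) c.hs y3
    y4 u v hu hv

theorem trI8 (f : TF a b M) (h1 : N ≤ M ⊓ D G a b) (h2 : M ⊓ D G a b ≤ normalizer (N : Set G))
    (hy : y ∈ N) (hp : (orderOf y).Prime) (hz : J a z) (h0 : y * z = z * y)
    (h : ∀ v, J a v → y * v = v * y → v = z) (u v : G) (hu : J a u) (hv : J a v) :
    ∃ n ∈ N, n * u * n⁻¹ = v :=
  H8.trans_J hp (fun _ h => (h1 h).2.1) h2 (c.trE8 f) hy (pow_orderOf_eq_one y) hz h0 h u v hu hv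

theorem tnorm8 (f : TF a b M) : t ∈ normalizer ((M ⊓ D G a b : Subgroup G) : Set G) := by
  obtain ⟨p, y, hp, -, y1, y2, y3, y4⟩ := c.exy8 f
  have t2 := c.ht.1
  have hc : ∀ x ∈ M ⊓ D G a b, x * s = s * x → x ∈ cj (M ⊓ D G a b) t := fun x hx e => by
    rwa [mem_cj2 t2, ← (c.vs x hx.2).2 e, mul_assoc, t2, mul_one]
  have hn : M ⊓ D G a b ≤ normalizer ((M ⊓ D G a b ⊓ cj (M ⊓ D G a b) t : Subgroup G) : Set G) :=
    fun g hg => norm_inf (le_normalizer hg) (by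
      have := norm_cj (c.D_le_normE8 (c.ht.conj_mem_D hg.2)) t
      rwa [inv_of_sq t2, ← mul_assoc, ← mul_assoc, t2, one_mul, mul_assoc, t2, mul_one] at this)
  refine norm_of_sq t2 fun x hx => (mem_cj2 t2).1 ?_
  obtain ⟨n, n1, n2⟩ := c.trI8 f inf_le_left hn ⟨y1, hc y y1 y3⟩ (y2 ▸ hp) c.hs y3 y4 _ _ c.hs
    (c.hs.conj_fix hx.2.1)
  have := hc (n⁻¹ * x) (mul_mem (inv_mem n1.1) hx) (by
    calc n⁻¹ * x * s = n⁻¹ * (x * s * x⁻¹) * x := by group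
      _ = s * (n⁻¹ * x) := by rw [← n2]; group)
  simpa using mul_mem n1.2 this

/-- `D = E C_D(t)` -/
theorem D_dec8 (f : TF a b M) {d : G} (hd : d ∈ D G a b) :
    ∃ n ∈ M ⊓ D G a b, ∃ v ∈ D G a b, v * t = t * v ∧ d = n * v := by
  obtain ⟨n, n1, n2⟩ := c.trE8 f _ _ c.hs (c.hs.conj_fix hd.1)
  have m := mul_mem (inv_mem (mem_inf.1 n1).2) hd
  refine ⟨n, n1, n⁻¹ * d, m, (c.vs _ m).2 ?_, by simp⟩
  calc n⁻¹ * d * s = n⁻¹ * (d * s * d⁻¹) * d := by group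
    _ = s * (n⁻¹ * d) := by rw [← n2]; group

theorem K_leE8 (f : TF a b M) (hk : KK a b t k) : k ∈ M ⊓ D G a b := by
  obtain ⟨n, n1, v, -, v2, e⟩ := c.D_dec8 f hk.1
  refine mem_of_sq_odd (odd_of_mem_D c.se8 c.ab hk.1) ?_
  have h1 := nm2 c.ht.1 (c.tnorm8 f) n1
  have e1 : k⁻¹ = t * n * t * v := by
    rw [← hk.2, e, mul_assoc t, mul_assoc n, v2]; simp only [mul_assoc]
  have e2 : k * k = k * (n * (t * n * t)⁻¹) * k⁻¹ := by
    rw [show v = n⁻¹ * k by rw [e]; group] at e1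
    rw [← mul_inv_eq_iff_eq_mul.2 e1]; simp [mul_assoc]
  rw [e2]
  exact nm (c.D_le_normE8 hk.1) (mul_mem n1 (inv_mem h1))

theorem K_le8 (f : TF a b M) (hk : KK a b t k) :
    k ∈ (⁅M ⊓ D G a b, M ⊓ D G a b⁆ : Subgroup G) :=
  f.two k (c.K_leE8 f hk) fun i hi _ e =>
    E2 c.H c.nb c.ab c.ht ⟨pow_mem hk.1 i, inv_pow_conj c.ht.1 hk.2 i⟩ hi e

theorem trans_two8 (hp : p.Prime) (h1 : N ≤ M) (h2 : M ≤ normalizer (N : Set G)) (hx : x ∈ N)
    (xp : x ^ p = 1) (xb : x • b = b) (h : ∀ d : Ω, x • d = d → d = a ∨ d = b) (d e : Ω)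
    (hd : d ≠ a) (he : e ≠ a) : ∃ g ∈ N, g • d = e := by
  haveI := fin c.H
  have key := H8.trans_of_one hp (S := {d : Ω | d ≠ a}) (Set.toFinite _) (fun g hg u hu e => hu
    (smul_left_cancel g (e.trans (c.min.1.le g (h1 hg)).symm))) h2
    (fun u hu v hv => c.min.1.tr u v hu hv) hx xp (u := b) c.ab.symm
    (fun v hv => ⟨fun e => (h v e).resolve_left hv, fun e => e ▸ xb⟩)
  exact Orb.tr (Orb.sy (key d hd)) (key e he)

theorem perf8 (f : TF a b M) : (⁅M, M⁆ : Subgroup G) = M := by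
  obtain ⟨p, hp, k, k1, k2, k3⟩ := c.exK8
  have le : (⁅M, M⁆ : Subgroup G) ≤ M := commutator_le_self M
  refine c.min.2 _ ⟨c.min.1.le.mono le, fun g hg _ hx =>
    nm (norm_comm (c.normM8 hg) (c.normM8 hg)) hx, ?_⟩ le
  exact c.trans_two8 hp le (fun g hg => norm_comm (le_normalizer hg) (le_normalizer hg))
    (commutator_mono inf_le_left inf_le_left (c.K_le8 f k1)) k3 k1.1.2
    fun d => E2 c.H c.nb c.ab c.ht k1 k2

theorem le_of_sup8 (f : TF a b M) (h2 : M ≤ normalizer (N : Set G)) (n : ℕ) :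
    ∀ L : Subgroup G, Nat.card L = n → L ≤ M ⊓ D G a b → M ≤ N ⊔ L → M ≤ N := by
  induction n using Nat.strong_induction_on with
  | _ n ih =>
  intro L e h1 h3
  by_cases h0 : L = ⊥
  · simpa [h0] using h3
  have lt := comm_lt (c.solvD (h1.trans inf_le_right)) h0
  refine ih _ (e ▸ card_lt lt) _ rfl (lt.le.trans h1) ?_
  rw [← c.perf8 f, commutator_le]
  intro g hg g' hg'
  have hL : L ≤ normalizer (N : Set G) := fun _ h => h2 (h1 h).1
  obtain ⟨o, o1, l, l1, rfl⟩ := mem_sup_norm hL (h3 hg)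
  obtain ⟨o', o1', l', l1', rfl⟩ := mem_sup_norm hL (h3 hg')
  have e1 : ⁅o * l, o' * l'⁆ = o * (l * o' * l⁻¹) * (l * l' * l⁻¹ * o⁻¹ * (l * l' * l⁻¹)⁻¹) *
      ⁅l, l'⁆ * o'⁻¹ := by simp only [commutatorElement_def]; group
  rw [e1]
  refine mul_mem (mul_mem (mem_sup_left (mul_mem (mul_mem o1 (nm (hL l1) o1'))
    (nm (hL (mul_mem (mul_mem l1 l1') (inv_mem l1))) (inv_mem o1))))
    (mem_sup_right (commutator_mem_commutator l1 l1'))) (mem_sup_left (inv_mem o1'))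

theorem norm_two8 (f : TF a b M) (h1 : N ≤ M) (h2 : M ≤ normalizer (N : Set G)) (hx : x ∈ N)
    (hp : p.Prime) (xp : x ^ p = 1) (xb : x • b = b) (h : ∀ d : Ω, x • d = d → d = a ∨ d = b) :
    N = M := by
  refine le_antisymm h1 (c.le_of_sup8 f h2 _ _ rfl le_rfl fun g hg => ?_)
  have ga := c.min.1.le g hg
  obtain ⟨n, n1, n2⟩ := c.trans_two8 hp h1 h2 hx xp xb h b (g • b) c.ab.symm
    fun e => c.ab (smul_left_cancel g (ga.trans e.symm))
  have : n⁻¹ * g ∈ M ⊓ D G a b := ⟨M.mul_mem (M.inv_mem (h1 n1)) hg, show _ • a = a by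
    rw [mul_smul, ga, inv_smul_eq_iff, c.min.1.le n (h1 n1)], show _ • b = b by
    rw [mul_smul, ← n2, inv_smul_smul]⟩
  simpa using mul_mem (mem_sup_left n1) (mem_sup_right this : _ ∈ N ⊔ (M ⊓ D G a b))

theorem not_K8 (f : TF a b M) (h1 : N ≤ M) (h2 : M ≤ normalizer (N : Set G)) (ne : N ≠ M)
    (hk : KK a b t k) (h : k ∈ N) : k = 1 := by
  by_contra k1
  obtain ⟨p, hp, n, n1, n2⟩ := H8.exists_ppow k1
  have m := pow_mem hk.1 n
  exact ne (c.norm_two8 f h1 h2 (pow_mem h n) hp n2 m.2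
    fun d => E2 c.H c.nb c.ab c.ht ⟨m, inv_pow_conj c.ht.1 hk.2 n⟩ n1)

theorem norm_D8 (f : TF a b M) (h1 : N ≤ M) (h2 : M ≤ normalizer (N : Set G)) (ne : N ≠ M) :
    N ⊓ D G a b = ⊥ := by
  by_contra h0
  have t2 := c.ht.1
  obtain ⟨⟨x0, hx0⟩, x1⟩ := ne_bot_iff_exists_ne_one.1 h0
  obtain ⟨p, hp, n, n1, n2⟩ := H8.exists_ppow (k := x0) fun e => x1 (Subtype.ext e)
  have hx := pow_mem hx0 n
  generalize x0 ^ n = x at n1 n2 hx
  have : ∃ d : Ω, x • d = d ∧ d ≠ a ∧ d ≠ b := by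
    by_contra h
    push Not at h
    exact ne (c.norm_two8 f h1 h2 hx.1 hp n2 hx.2.2 fun d hd => or_iff_not_imp_left.2 (h d hd))
  obtain ⟨d, d1, d2, d3⟩ := this
  obtain ⟨u, u1, u2⟩ := E3p c.H c.nb hp (pz (k := x) (n := 1) (by rwa [pow_one]))
    ⟨a, b, d, c.ab, d2.symm, d3.symm, H8.fx_zpowers hx.2.1, H8.fx_zpowers hx.2.2,
      H8.fx_zpowers d1⟩ (H8.fx_zpowers hx.2.1)
  obtain ⟨l, l1, l2⟩ := c.trE8 f u s u1 c.hs
  have hn0 : M ⊓ D G a b ≤ normalizer ((N ⊓ D G a b : Subgroup G) : Set G) :=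
    fun g hg => norm_inf (h2 hg.1) (le_normalizer hg.2)
  have hn : M ⊓ D G a b ≤ normalizer ((N ⊓ D G a b ⊓ cj (N ⊓ D G a b) t : Subgroup G) : Set G) :=
    fun g hg => norm_inf (hn0 hg) (by
      have := norm_cj (hn0 (nm2 t2 (c.tnorm8 f) hg)) t
      rwa [inv_of_sq t2, ← mul_assoc, ← mul_assoc, t2, one_mul, mul_assoc, t2, mul_one] at this)
  have ht : t ∈ normalizer ((N ⊓ D G a b ⊓ cj (N ⊓ D G a b) t : Subgroup G) : Set G) :=
    norm_of_sq t2 fun y hy => ⟨(mem_cj2 t2).1 hy.2, (mem_cj2 t2).2 (by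
      simpa only [mul_assoc, t2, mul_one, sq_cancel t2] using (mem_inf.1 hy).1)⟩
  have hc : ∀ y ∈ N ⊓ D G a b ⊓ cj (N ⊓ D G a b) t, y * s = s * y := fun y hy => by
    by_contra hy'
    obtain ⟨k, k1, k2, k3⟩ := exists_inv (odd_of_fix2 (X := N ⊓ D G a b ⊓ cj (N ⊓ D G a b) t) c.se8 c.ab
      (fun _ h => h.1.2.1) fun _ h => h.1.2.2) t2 ht hy (fun e => hy' ((c.vs y hy.1.2).1 e))
    exact k2 (c.not_K8 f h1 h2 ne ⟨k1.1.2, k3⟩ k1.1.1)
  have m := nm (hn0 l1) hx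
  have e1 : l * x * l⁻¹ * s = s * (l * x * l⁻¹) := by
    rw [← l2]
    simp only [mul_assoc, inv_mul_cancel_left]
    rw [← mul_assoc x, u2 x (mem_zpowers x), mul_assoc]
  have m2 : l * x * l⁻¹ ∈ N ⊓ D G a b ⊓ cj (N ⊓ D G a b) t := mem_inf.2 ⟨m, by
    rwa [mem_cj2 t2, ← (c.vs _ m.2).2 e1, mul_assoc, t2, mul_one]⟩
  suffices h : l * x * l⁻¹ = 1 from n1 (by simpa using h)
  refine c.W _ m.2 fun z hz => ?_
  obtain ⟨g, g1, rfl⟩ := c.trE8 f s z c.hs hz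
  have := hc _ (nm' (hn g1) m2)
  generalize l * x * l⁻¹ = y at this
  calc y * (g * s * g⁻¹) = g * (g⁻¹ * y * g * s) * g⁻¹ := by group
    _ = g * s * g⁻¹ * y := by rw [this]; group

theorem norm_nil8 (f : TF a b M) (h1 : N ≤ M) (h2 : M ≤ normalizer (N : Set G)) (ne : N ≠ M) :
    Group.IsNilpotent N := by
  obtain ⟨p, hp, k, k1, k2, k3⟩ := c.exK8
  have hk := h2 (c.K_leE8 f k1).1
  let φ : N →* N := ((MulAut.conj k).toMonoidHom.comp N.subtype).codRestrict N fun x => nm hk x.2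
  have hφ : ∀ (n : ℕ) (x : N), ((φ^[n] x : N) : G) = k ^ n * x * (k ^ n)⁻¹ := fun n x => by
    induction n with
    | zero => simp
    | succ n ih =>
      rw [Function.iterate_succ_apply']
      show k * (φ^[n] x : N) * k⁻¹ = _
      rw [ih, pow_succ']; group
  refine H4.Th.fpf_nilpotent (φ := φ) hp (funext fun x => Subtype.ext ((hφ p x).trans (by rw [k3]; simp)))
    fun x hx => Subtype.ext ?_
  have e : k * x = x * k := mul_inv_eq_iff_eq_mul.1 (congrArg Subtype.val hx)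
  have xa := c.min.1.le _ (h1 x.2)
  have : (x : G) ∈ N ⊓ D G a b := ⟨x.2, xa, (E2 c.H c.nb c.ab c.ht k1 k2 (c := (x : G) • b) (by
    rw [← mul_smul, e, mul_smul, show k • b = b from k1.1.2])).resolve_left
      fun e' => c.ab (smul_left_cancel _ (xa.trans e'.symm))⟩
  rwa [c.norm_D8 f h1 h2 ne] at this

theorem norm_inv8 (f : TF a b M) (h1 : N ≤ M) (h2 : M ≤ normalizer (N : Set G)) (ne : N ≠ M)
    (hx : x ∈ N) (x1 : x ≠ 1) (x2 : x * x = 1) (hz : J a z) (hw : J a w) : z * w = w * z := by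
  haveI := c.norm_nil8 f h1 h2 ne
  haveI := Fact.mk Nat.prime_two
  have hJ : ∀ u, J a u → u ∈ N := fun u hu => by
    obtain ⟨n, n1, rfl⟩ := c.trE8 f x u ⟨x1, x2, c.min.1.le x (h1 hx)⟩ hu
    exact nm (h2 n1.1) hx
  obtain ⟨S⟩ : Nonempty (Sylow 2 N) := inferInstance
  haveI := sylow_normal_of_nilpotent S
  have hS : ∀ u, J a u → u ∈ (S : Subgroup N).map N.subtype := fun u hu => by
    obtain ⟨Q, hQ⟩ := (pz (k := (⟨u, hJ u hu⟩ : N)) (p := 2) (n := 1)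
      (Subtype.ext (by simpa [sq] using hu.2.1))).exists_le_sylow
    haveI := Sylow.unique_of_normal S inferInstance
    exact ⟨⟨u, hJ u hu⟩, Subsingleton.elim Q S ▸ hQ (mem_zpowers _), rfl⟩
  obtain ⟨v, v1, v2, v3, v4⟩ := H8.exists_center Nat.prime_two (S.isPGroup'.map N.subtype)
    (fun e => hz.1 (by simpa [e] using hS z hz))
  obtain ⟨n, n1, rfl⟩ := c.trE8 f v z ⟨v2, by rwa [← sq], c.min.1.le v (h1 (map_subtype_le _ v1))⟩ hz
  have := v4 _ (hS _ (hw.conj_fix' n1.2.1))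
  calc n * v * n⁻¹ * w = n * (v * (n⁻¹ * w * n)) * n⁻¹ := by group
    _ = w * (n * v * n⁻¹) := by rw [← this]; group

end Cf

end CB

end Cfsg.Agent.H7.BD
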