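import Cfsg.Agent.H7.BN.E1
import Cfsg.Agent.H8.EG6

set_option autoImplicit false
set_option linter.unusedSectionVars false
set_option linter.unusedVariables false

/-! End-game: control of fusion by a good central element. -/

namespace Cfsg.Agent.H7.BD

open MulAction Subgroup Cfsg.Agent.H3 Cfsg.Agent.H5.ZL H3 S1
open scoped commutatorElement
open H8

namespace CB

variable {G Ω : Type*} [Group G] [Finite G] [MulAction G Ω] {a b c d e : Ω}
  {z w t g k x y s q u : G} {M N L X Y Q P : Subgroup G} {p : ℕ}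

theorem nice_fix (H : Hyp G Ω) (nb : NB G Ω) (hp : p.Prime) (p2 : p ≠ 2) (ab : a ≠ b)
    (h : Nice Ω a z) (hz : z ∈ D G a b) (z1 : z ≠ 1) (zp : IsPGroup p (zpowers z))
    (hL : IsPGroup p L) (fa : Fx L a) : ∃ c, c ≠ a ∧ Fx L c := by
  haveI := fin H
  have h1 := pgroup_ncard_modEq hp zp (S := {c : Ω | c ≠ a}) (Set.toFinite _) fun g hg c hc e =>
    hc (smul_left_cancel g (e.trans (fx_zpowers hz.1 g hg).symm))
  refine pgroup_exists_fixed hp hL (S := {c : Ω | c ≠ a}) (Set.toFinite _) (fun g hg c hc e =>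
    hc (smul_left_cancel g (e.trans (fa g hg).symm))) fun hd => ?_
  replace hd : p ∣ {c | c ≠ a ∧ Fx (zpowers z) c}.ncard := (h1.dvd_iff dvd_rfl).1 hd
  rcases h with h | h
  · rw [show {c | c ≠ a ∧ Fx (zpowers z) c} = {b} from Set.ext fun c => ⟨fun hc =>
      eq_of_not3 h ab (fx_zpowers hz.1) (fx_zpowers hz.2) hc.2 hc.1, fun hc => by
        rw [Set.mem_singleton_iff.1 hc]; exact ⟨ab.symm, fx_zpowers hz.2⟩⟩,
      Set.ncard_singleton] at hd
    exact hp.one_lt.ne' (Nat.dvd_one.1 hd)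
  · obtain ⟨Q, hQ⟩ := E4 H nb (fun e => z1 (zpowers_eq_bot.1 e)) (fx_zpowers hz.1)
      ⟨b, ab.symm, fx_zpowers hz.2⟩ h
    exact QY_ncard hQ hp p2 ab.symm (fx_zpowers hz.2) hd

/-- a subgroup containing a nice central element: its centraliser is transitive on the fixed points -/
theorem nice_cent (H : Hyp G Ω) (nb : NB G Ω) (hp : p.Prime) (p2 : p ≠ 2) (hM : Tr a M)
    (h : Nice Ω a z) (z1 : z ≠ 1) (hX : IsPGroup p X) (hz : z ∈ X) (zc : ∀ x ∈ X, x * z = z * x)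
    (fa : Fx X a) (ca : c ≠ a) (da : d ≠ a) (fc : Fx X c) (fd : Fx X d) :
    ∃ u ∈ M, (∀ x ∈ X, x * u = u * x) ∧ u • c = d := by
  have le := zpowers_le.2 hz
  rcases h with h | h
  · exact ⟨1, M.one_mem, by simp, by
      rw [one_smul, eq_of_not3 h ca.symm (fa.mono le) (fc.mono le) (fd.mono le) da]⟩
  obtain ⟨Q, hQ⟩ := E4 H nb (fun e => z1 (zpowers_eq_bot.1 e)) (fa.mono le) ⟨c, ca, fc.mono le⟩ h
  obtain ⟨q, q1, rfl⟩ := hQ.tr c d (fc.mono le) (fd.mono le) ca da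
  haveI := Fact.mk Nat.prime_two
  obtain ⟨u, u1, u2, u3⟩ := cop_orbit hp hX (U := Q) (fun x hx => mem_normalizer_of_conj_mem
    (hQ.norm x (norm_of_comm fun y hy => ((zpowers_le (H := centralizer {x})).2
      (mem_centralizer_singleton_iff.2 (zc x hx).symm) hy x rfl).symm) (fa x hx))) (by
    obtain ⟨n, hn⟩ := hQ.pg.exists_card_eq
    rw [hn]
    exact fun d => p2 ((Nat.prime_dvd_prime_iff_eq hp Nat.prime_two).1 (hp.dvd_of_dvd_pow d)))
    q1 fc fd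
  exact ⟨u, two_mem H.se ca.symm hM hQ.pg u1 (hQ.fx u u1), u2, u3⟩

section
variable {A : Type*} {f : G → A}

theorem fus (H : Hyp G Ω) (nb : NB G Ω) (hp : p.Prime) (p2 : p ≠ 2) (ab : a ≠ b) (hM : Tr a M)
    (hP : SylowIn p P (M ⊓ D G a b)) (hz : z ∈ P) (z1 : z ≠ 1) (zc : ∀ y ∈ P, y * z = z * y)
    (h : Nice Ω a z) (hf : ∀ g ∈ M ⊓ D G a b, ∀ x ∈ M ⊓ D G a b, f (g * x * g⁻¹) = f x)
    (X : Subgroup G) : IsPGroup p X → X ≤ M → ∀ c d : Ω, c ≠ a → d ≠ a → Fx X c → Fx X d →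
      RR M b f X c d := by
  induction X using (wellFounded_gt (α := Subgroup G)).induction with
  | _ X ih =>
  intro hX le c d ca da fc fd
  have zp : IsPGroup p (zpowers z) := hP.pgroup.to_le (zpowers_le.2 hz)
  have zM : ∀ u ∈ M, u * z * u⁻¹ ∈ M := fun u hu =>
    M.mul_mem (M.mul_mem hu (hP.le hz).1) (M.inv_mem hu)
  have z1' : ∀ u : G, u * z * u⁻¹ ≠ 1 := fun u e => z1 (by simpa using e)
  obtain ⟨u, u1, u2, u3⟩ := loc_z hp ab hM hP hz zc hX le ca fc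
  obtain ⟨v, v1, v2, v3⟩ := loc_z hp ab hM hP hz zc hX le da fd
  have key : ∀ u ∈ M, u * z * u⁻¹ ∈ X → (∀ x ∈ X, x * (u * z * u⁻¹) = u * z * u⁻¹ * x) →
      RR M b f X c d := fun u hu h1 h2 =>
    let ⟨w, w1, w2, w3⟩ := nice_cent H nb hp p2 hM (h.conj (hM.le u hu)) (z1' u) hX h1 h2
      (hM.le.mono le) ca da fc fd
    RR.of_cent hM hf le fc w1 w2 w3
  by_cases hu : u * z * u⁻¹ ∈ X
  · exact key u u1 hu u3
  by_cases hv : v * z * v⁻¹ ∈ X
  · exact key v v1 hv v3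
  have step : ∀ u ∈ M, u * z * u⁻¹ ∉ X → (∀ x ∈ X, x * (u * z * u⁻¹) = u * z * u⁻¹ * x) →
      ∀ c d : Ω, c ≠ a → d ≠ a → Fx X c → Fx X d → (u * z * u⁻¹) • c = c →
      (u * z * u⁻¹) • d = d → RR M b f X c d := fun u hu h1 h2 c d ca da fc fd e1 e2 =>
    (ih (X ⊔ zpowers (u * z * u⁻¹)) (left_lt_sup.2 fun e => h1 (e (mem_zpowers _)))
      (pg_sup_cent hX (cj_zp z u ▸ pg_cj zp u) fun y hy x hx =>
        (zpowers_le (H := centralizer {x})).2 (mem_centralizer_singleton_iff.2 (h2 x hx).symm) hy x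
          rfl) (sup_le le (zpowers_le.2 (zM u hu))) c d ca da
      (fun _ hx => (sup_le (c := stabilizer G c) fc (fx_zpowers e1)) hx)
      (fun _ hx => (sup_le (c := stabilizer G d) fd (fx_zpowers e2)) hx)).mono le_sup_left
  obtain ⟨S, hS, l1⟩ := exists_sylowIn_ge hp (cj_zp z u ▸ pg_cj zp u)
    (K := M ⊓ centralizer (X : Set G)) (zpowers_le.2 ⟨zM u u1, u3⟩)
  obtain ⟨y, y1, y2⟩ := hS.exists_conj_le hp (cj_zp z v ▸ pg_cj zp v) (zpowers_le.2 ⟨zM v v1, v3⟩)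
  obtain ⟨e, ea, fe⟩ := nice_fix H nb hp p2 ab h (hP.le hz).2 z1 zp (pg_sup_cent hX hS.pgroup
    fun y hy => (hS.le hy).2) (hM.le.mono (sup_le le (hS.le.trans inf_le_left)))
  have m := (M ⊓ centralizer (X : Set G)).inv_mem y1
  have ea' : y⁻¹ • e ≠ a := fun e' => ea (by rw [← smul_inv_smul y e, e', hM.le y y1.1])
  refine RR.trans hM ab (RR.trans hM ab (step u u1 hu u3 c e ca ea fc (fe.mono le_sup_left) u2
    (fe _ (mem_sup_right (l1 (mem_zpowers _))))) (RR.of_cent hM hf le (fe.mono le_sup_left) m.1 m.2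
    rfl) ea) (step v v1 hv v3 _ d ea' da ((fe.mono le_sup_left).conj (norm_of_comm m.2)) fd ?_ v2) ea'
  have := fe _ (mem_sup_right (y2 _ (mem_zpowers _)))
  rwa [mul_smul, mul_smul, smul_eq_iff_eq_inv_smul] at this

end

theorem not_dvd_index (H : Hyp G Ω) (nb : NB G Ω) (hp : p.Prime) (p2 : p ≠ 2) (ab : a ≠ b)
    (hM : Tr a M) (hP : SylowIn p P (M ⊓ D G a b)) (hz : z ∈ P) (z1 : z ≠ 1) (h : Nice Ω a z) :
    ¬ p ∣ (M ⊓ D G a b).relIndex M := by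
  obtain ⟨S, hS, le⟩ := exists_sylowIn_ge hp hP.pgroup (hP.le.trans inf_le_left)
  obtain ⟨c, ca, fc⟩ := nice_fix H nb hp p2 ab h (hP.le hz).2 z1 (hP.pgroup.to_le (zpowers_le.2 hz))
    hS.pgroup (hM.le.mono hS.le)
  obtain ⟨g, g1, g2⟩ := hM.tr c b ca ab.symm
  obtain ⟨y, y1, y2⟩ := hP.exists_conj_le hp (pg_cj hS.pgroup g) (by
    rintro _ ⟨x, hx, rfl⟩
    have m := M.mul_mem (M.mul_mem g1 (hS.le hx)) (M.inv_mem g1)
    exact ⟨m, hM.le _ m, g2 ▸ fx_cj fc g _ (cj_mem hx g)⟩)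
  have e : P = S := eq_of_le_of_card_ge le (by
    rw [← card_cj S g, ← card_cj _ y]
    exact card_le_of_le (by rintro _ ⟨x, hx, rfl⟩; exact y2 x hx))
  exact fun hd => hS.not_dvd (e ▸ hd.trans (relIndex_dvd_of_le_left M hP.le))

theorem Fbad8 (H : Hyp G Ω) (nb : NB G Ω) (hab : a ≠ b) (hM : MinTr a M) (hp : p.Prime)
    (trl : ¬ p ∣ (M ⊓ D G a b).relIndex M → ∀ (N : Subgroup (Abelianization ↥(M ⊓ D G a b))),
      IsPGroup p (Abelianization ↥(M ⊓ D G a b) ⧸ N) →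
      ∀ (φ : ↥(M ⊓ D G a b) →* Abelianization ↥(M ⊓ D G a b) ⧸ N) (x : ↥(M ⊓ D G a b)),
      (∀ (i : ℕ) (g : G), g ∈ M → ∀ h : g * x.1 ^ i * g⁻¹ ∈ M ⊓ D G a b, φ ⟨_, h⟩ = φ (x ^ i)) →
      φ x = 1)
    (hd : p ∣ (⁅M ⊓ D G a b, M ⊓ D G a b⁆ : Subgroup G).relIndex (M ⊓ D G a b))
    (hP : SylowIn p P (M ⊓ D G a b)) (hz : z ∈ P) (h1 : z ≠ 1) (hc : ∀ y ∈ P, y * z = z * y) :
    Fx3 Ω (zpowers z) ∧ ¬ Gd a (zpowers z) := by
  classical
  by_contra h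
  replace h : Nice Ω a z := by
    rcases not_and_or.1 h with h | h
    · exact Or.inl h
    · exact Or.inr (not_not.1 h)
  have p2 : p ≠ 2 := by
    rintro rfl
    exact not_two_dvd (odd_of_fix2 (X := M ⊓ D G a b) H.se hab (fun _ h => h.2.1) fun _ h => h.2.2)
      (hd.trans (relIndex_dvd_card _ _))
  obtain ⟨N, hN, x, ⟨n, hn⟩, hx⟩ := exists_hom (E := ↥(M ⊓ D G a b)) hp (by
    rwa [relIndex, ← map_subtype_commutator, subgroupOf, comap_map_eq_self_of_injective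
      (subtype_injective _)] at hd)
  refine hx (trl (not_dvd_index H nb hp p2 hab hM.1 hP hz h1 h) N hN _ x fun i g hg m => ?_)
  generalize (QuotientGroup.mk' N).comp Abelianization.of = φ
  have m' := (M ⊓ D G a b).pow_mem x.2 i
  have := fus H nb hp p2 hab hM.1 hP hz h1 hc h (f := fun y => if h : y ∈ M ⊓ D G a b then φ ⟨y, h⟩
    else 1) (fun g hg y hy => by
      have e := mul_mem (mul_mem hg hy) (inv_mem hg)
      simp only [dif_pos e, dif_pos hy]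
      rw [show (⟨_, e⟩ : ↥(M ⊓ D G a b)) = ⟨g, hg⟩ * ⟨y, hy⟩ * ⟨g, hg⟩⁻¹ from rfl, map_mul, map_mul,
        map_inv, mul_inv_cancel_comm]) (zpowers (x.1 ^ i))
    (pz (n := n) (by rw [← pow_mul, mul_comm, pow_mul, show x.1 ^ p ^ n = 1 from
      congrArg Subtype.val hn, one_pow])) (zpowers_le.2 m'.1) (g⁻¹ • b) b
    (fun e => hab (by rw [← hM.1.le g hg, ← e, smul_inv_smul])) hab.symm
    (fx_zpowers (by
      have : (g * x.1 ^ i * g⁻¹) • b = b := m.2.2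
      rwa [mul_smul, mul_smul, smul_eq_iff_eq_inv_smul] at this)) (fx_zpowers m'.2.2)
    g hg 1 M.one_mem (smul_inv_smul g b) (one_smul _ b) _ (mem_zpowers _)
  simp only [one_mul, inv_one, mul_one, dif_pos m, dif_pos m'] at this
  exact this

end CB

end Cfsg.Agent.H7.BD
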